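import Cfsg.Agent.H47.Wk.Count
import Cfsg.Agent.H478.Th3C
import Cfsg.Agent.H502.TO.Loc
import Cfsg.Agent.H49.ThSevenDat
import Cfsg.Agent.H743.Wk.OrbTwo

/-!
# S4095 at the prime 2: the Thompson group (helper743)

* `three_dvd` : `3 ^ 7` divides `|C(w)|` for every `w` of order 3;
* `core` : **`O_2(C(w)) = 1` for every element `w` of odd prime order**;
* `row` : **the row at 2.**
-/

set_option autoImplicit false

namespace Cfsg.Agent.H743.Wk.Th

open Subgroup Cfsg
open Cfsg.Agent.H777.Th3 Cfsg.Agent.H777.Th3.Dat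
open Cfsg.Agent.H502.TO (card_th fin_th card_five odd_cent card_cent_conj)

/-- `3 ^ 7` divides the order of the centralizer of a nontrivial element of `U` -/
theorem uu_dvd {e : V5} (he : thDat.uu e ≠ 1) : 3 ^ 7 ∣ Nat.card (centralizer ({thDat.uu e} : Set Spor.Th)) := by
  classical
  have := fin_th
  have : Fact (Nat.Prime 3) := ⟨Nat.prime_three⟩
  have h1 : Nat.card thDat.Tg ≤ _ := card_le_of_conj (S := thDat.Tg) he
    (F := (Finset.univ : Finset (ZMod 3 × ZMod 3)).image fun z => thDat.uu (e + (z.1, z.2, 0, 0, 0))) (by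
      intro s hs
      rw [Finset.mem_image]
      obtain ⟨a, b, c, d, hA⟩ := act_of_mem_Tg (thDat.Tg.inv_mem hs)
      have h2 := hA e
      rw [inv_inv] at h2
      refine ⟨((T a b c d e).1 - e.1, (T a b c d e).2.1 - e.2.1), Finset.mem_univ _, ?_⟩
      rw [h2]
      congr 1
      obtain ⟨e1, e2, e3, e4, e5⟩ := e
      simp only [T, Prod.mk_add_mk, Prod.mk.injEq, add_sub_cancel, add_zero, and_self])
  have h2 : ((Finset.univ : Finset (ZMod 3 × ZMod 3)).image fun z => thDat.uu (e + (z.1, z.2, 0, 0, 0))).card ≤ 9 :=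
    Finset.card_image_le.trans (by decide)
  rw [card_Tg th_u1_ne] at h1
  obtain ⟨i, hi, hi2⟩ := (Nat.dvd_prime_pow Nat.prime_three).1
    (show Nat.card (thDat.Tg ⊓ centralizer ({thDat.uu e} : Set Spor.Th) : Subgroup Spor.Th) ∣ 3 ^ 9 from by
      rw [← card_Tg th_u1_ne]
      exact card_dvd_of_le inf_le_left)
  have h3 : 7 ≤ i := by
    by_contra h7
    have h4 : 3 ^ i ≤ 3 ^ 6 := Nat.pow_le_pow_right (by norm_num) (by omega)
    have h5 := h1.trans (Nat.mul_le_mul_right _ h2)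
    rw [hi2] at h5
    omega
  refine (pow_dvd_pow 3 h3).trans ?_
  rw [← hi2]
  exact card_dvd_of_le inf_le_right

/-- **`3 ^ 7` divides the order of the centralizer of an element of order 3** -/
theorem three_dvd {w : Spor.Th} (hw : orderOf w = 3) : 3 ^ 7 ∣ Nat.card (centralizer ({w} : Set Spor.Th)) := by
  obtain ⟨g, e, hg⟩ := H478.ThThree.fus (x := w) (by rw [← hw, pow_orderOf_eq_one])
  have hw1 : w ≠ 1 := by
    rintro rfl
    rw [orderOf_one] at hw
    norm_num at hw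
  have he : thDat.uu e ≠ 1 := by
    rw [← hg]
    intro h
    apply hw1
    calc w = g * (g⁻¹ * w * g) * g⁻¹ := by group
      _ = 1 := by rw [h]; group
  have := uu_dvd he
  rw [← hg] at this
  have h2 := card_cent_conj g⁻¹ w
  rw [inv_inv] at h2
  rwa [h2] at this

theorem ar27 : ∀ m, 1 ≤ m → m ≤ 15 → ¬ 3 ^ (2 + 1) ∣ 2 ^ m - 1 := by
  intro m h1 h2
  interval_cases m <;> decide

theorem ar25 : ∀ m, 1 ≤ m → m ≤ 15 → ¬ 5 ^ (1 + 1) ∣ 2 ^ m - 1 := by
  intro m h1 h2
  interval_cases m <;> decide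

/-- **`O_2(C(w)) = 1`, `w` of odd prime order** -/
theorem core {w : Spor.Th} (hw : (orderOf w).Prime) (hw2 : orderOf w ≠ 2) {T : Subgroup Spor.Th}
    (hT : IsPGroup 2 T) (hTw : ∀ t ∈ T, t * w = w * t) (hn : ∀ g, g * w = w * g → ∀ t ∈ T, g * t * g⁻¹ ∈ T) :
    T = ⊥ := by
  have := fin_th
  have hcard := card_th
  have : Fact (Nat.Prime 2) := ⟨Nat.prime_two⟩
  by_contra hT1
  have h16 : ¬ 2 ^ (15 + 1) ∣ Nat.card Spor.Th := by rw [hcard]; norm_num
  have key : ∀ {r j k : ℕ}, r.Prime → (∀ m, 1 ≤ m → m ≤ 15 → ¬ r ^ (j + 1) ∣ 2 ^ m - 1) →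
      r ^ (j + k) ∣ Nat.card (centralizer ({w} : Set Spor.Th)) → ¬ r ^ k ∣ 92897280 → False := by
    intro r j k hr h1 h2 h3
    have : Fact r.Prime := ⟨hr⟩
    obtain ⟨S, hS⟩ := Sylow.exists_subgroup_card_pow_prime (G := centralizer ({w} : Set Spor.Th)) r h2
    have hS' : Nat.card (S.map (centralizer ({w} : Set Spor.Th)).subtype) = r ^ (j + k) := by
      rw [card_map_of_injective (subtype_injective _), hS]
    obtain ⟨v, -, hv, hd⟩ := exists_invol_cent hT hT1 (S := S.map (centralizer ({w} : Set Spor.Th)).subtype) (by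
      rintro _ ⟨s, hs, rfl⟩
      exact hn s (mem_centralizer_singleton_iff.1 s.2)) hr hS' h16 h1
    rw [MonsterX.ThOneClass.card_centralizer hv] at hd
    exact h3 hd
  have hT2 : 2 ∣ Nat.card (centralizer ({w} : Set Spor.Th)) := by
    obtain ⟨n, hn⟩ := IsPGroup.iff_card.1 hT
    have h1 : n ≠ 0 := by
      rintro rfl
      rw [pow_zero] at hn
      exact hT1 (Subgroup.eq_bot_of_card_eq _ hn)
    refine ((dvd_pow_self 2 h1).trans (by rw [hn])).trans (card_dvd_of_le (H := T) fun t ht => ?_)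
    exact mem_centralizer_singleton_iff.2 (hTw t ht)
  by_cases h3 : orderOf w = 3
  · exact key (j := 2) (k := 5) Nat.prime_three ar27 (three_dvd h3) (by norm_num)
  by_cases h5 : orderOf w = 5
  · exact key (r := 5) (j := 1) (k := 2) (by norm_num) ar25 (by rw [card_five h5]; norm_num) (by norm_num)
  by_cases h7 : orderOf w = 7
  · apply hT1
    refine H49.ThSeven.dat.core' h7 hTw hn ?_
    obtain ⟨n, hn⟩ := IsPGroup.iff_card.1 hT
    rw [hn]
    intro h
    have := (Nat.prime_dvd_prime_iff_eq (by norm_num) Nat.prime_two).1 ((show Nat.Prime 7 by norm_num).dvd_of_dvd_pow h)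
    omega
  refine odd_cent hw (fun hd => ?_) rfl hT2
  have h1 : (92897280 : ℕ) = 2 ^ 15 * 3 ^ 4 * 5 * 7 := by norm_num
  rw [h1, hw.dvd_mul, hw.dvd_mul, hw.dvd_mul] at hd
  rcases hd with ((hd | hd) | hd) | hd
  · exact hw2 ((Nat.prime_dvd_prime_iff_eq hw Nat.prime_two).1 (hw.dvd_of_dvd_pow hd))
  · exact h3 ((Nat.prime_dvd_prime_iff_eq hw Nat.prime_three).1 (hw.dvd_of_dvd_pow hd))
  · exact h5 ((Nat.prime_dvd_prime_iff_eq hw (by norm_num)).1 hd)
  · exact h7 ((Nat.prime_dvd_prime_iff_eq hw (by norm_num)).1 hd)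

universe u

theorem core_L {L : Type u} [Group L] [Finite L] (e : L ≃* Spor.Th) {w : L} (hw : (orderOf w).Prime)
    (hw2 : orderOf w ≠ 2) : pCore 2 ↥(centralizer ({w} : Set L)) = ⊥ := by
  have hN := (Lib.Cores.pCore_normal (G := ↥(centralizer ({w} : Set L))) 2)
  have hP := (Lib.Cores.pCore_isPGroup (G := ↥(centralizer ({w} : Set L))) 2)
  obtain ⟨Q, hQ⟩ : ∃ Q, Q = pCore 2 ↥(centralizer ({w} : Set L)) := ⟨_, rfl⟩
  rw [← hQ] at hN hP ⊢
  have h1 : ((Q.map (centralizer ({w} : Set L)).subtype).map e.toMonoidHom) = ⊥ := by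
    refine core (w := e w) (by rwa [MulEquiv.orderOf_eq]) (by rwa [MulEquiv.orderOf_eq]) ?_ ?_ ?_
    · exact (hP.map _).map _
    · rintro _ ⟨_, ⟨q, -, rfl⟩, rfl⟩
      show e (q : L) * e w = e w * e q
      rw [← map_mul, ← map_mul, mem_centralizer_singleton_iff.1 q.2]
    · intro g hg
      obtain ⟨g, rfl⟩ := e.surjective g
      rw [← map_mul, ← map_mul] at hg
      have hg' := e.injective hg
      rintro _ ⟨_, ⟨q, hq, rfl⟩, rfl⟩
      refine ⟨g * q * g⁻¹, ⟨⟨g, mem_centralizer_singleton_iff.2 hg'⟩ * q * ⟨g, mem_centralizer_singleton_iff.2 hg'⟩⁻¹,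
        hN.conj_mem q hq _, rfl⟩, ?_⟩
      show e (g * q * g⁻¹) = e g * e q * (e g)⁻¹
      rw [map_mul, map_mul, map_inv]
  rw [map_eq_bot_iff_of_injective _ e.injective, map_eq_bot_iff_of_injective _ (subtype_injective _)] at h1
  exact h1

/-- **S4095 at 2 for the Thompson group.** -/
theorem row {L : Type u} [Group L] [Finite L] (h : Cfsg.Spor.IsoTh L) (B : Cfsg.Agent.H509.Weak.Base L) :
    Cfsg.Agent.H516.Row 2 L := by
  obtain ⟨e⟩ := h
  have hcard : Nat.card L = 90745943887872000 := by rw [Nat.card_congr e.toEquiv, card_th]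
  have : Fact (Nat.Prime 3) := ⟨Nat.prime_three⟩
  obtain ⟨Q, hQ⟩ := Sylow.exists_subgroup_card_pow_prime (G := L) 3 (n := 10) (by rw [hcard]; norm_num)
  exact H47.Wk.row_of_count B Q (by rw [hQ]; decide) ∅ 32768 2769346432125 (by rw [hcard]) (by norm_num)
    (fun r hr => absurd hr (Set.notMem_empty r)) (by norm_num) (by rw [hQ]; norm_num) fun w hw hw2 =>
      Or.inl (core_L e hw hw2)

end Cfsg.Agent.H743.Wk.Th
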